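import Cfsg.Agent.Blocks.HeightZero.RegularPair
import Cfsg.Agent.Blocks.Basic.PGroup
import Cfsg.Agent.Chars.Induced.Conj

/-!
# Blocks of a normal subgroup under conjugation

* `regPair_conjFun`, `sameBlock_conjFun`: conjugation invariance;
* `blockStab`: the stabiliser of a block of a normal subgroup;
* `exists_height_zero_fixed`: a block has a member of height zero whose stabiliser has index prime to
  `p` in the stabiliser of the block.
-/

set_option autoImplicit false

namespace CfsgLib.Blocks.HeightZero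

open Cfsg CfsgLib.Blocks CfsgLib.Chars.Induced
open scoped ComplexConjugate Pointwise

universe u

variable {G : Type u} [Group G] {H : Subgroup G} [H.Normal] {p : ℕ} {M : Ideal AlgInt}
  {b : Set (IrrCharacter H)}

theorem regPair_conjFun (x : G) (f φ : H → ℂ) :
    regPair p (conjFun H x f) (conjFun H x φ) = regPair p f φ := by
  unfold regPair
  refine finsum_eq_of_bijective (fun n => (MulAut.conjNormal x : MulAut H)⁻¹ n)
    (MulEquiv.bijective _) fun n => ?_
  simp only [conjFun, map_inv, MulEquiv.orderOf_eq]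

theorem centralChar_conjFun (x : G) (f : H → ℂ) (n : H) :
    centralChar (conjFun H x f) n = centralChar f ((MulAut.conjNormal x : MulAut H)⁻¹ n) := by
  set e : MulAut H := (MulAut.conjNormal x : MulAut H)⁻¹
  have hc : (Subgroup.centralizer ({n} : Set H)).map ((e : H ≃* H) : H →* H) =
      Subgroup.centralizer ({e n} : Set H) := by
    ext y
    constructor
    · rintro ⟨w, hw, rfl⟩
      rw [SetLike.mem_coe, Subgroup.mem_centralizer_singleton_iff] at hw
      rw [Subgroup.mem_centralizer_singleton_iff]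
      exact (map_mul e w n).symm.trans ((congrArg e hw).trans (map_mul e n w))
    · intro hy
      refine ⟨e.symm y, ?_, e.apply_symm_apply y⟩
      rw [Subgroup.mem_centralizer_singleton_iff] at hy
      rw [SetLike.mem_coe, Subgroup.mem_centralizer_singleton_iff]
      apply e.injective
      rw [map_mul, map_mul, e.apply_symm_apply, hy]
  rw [centralChar, centralChar, ← hc, Subgroup.index_map_equiv]
  simp only [conjFun, map_one, e]

theorem sameBlock_conjFun (x : G) {f g : H → ℂ} (h : SameBlock M f g) :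
    SameBlock M (conjFun H x f) (conjFun H x g) := fun n => by
  rw [centralChar_conjFun, centralChar_conjFun]
  exact h _

theorem charDegree_conjIrr (x : G) (θ : IrrCharacter H) :
    charDegree (conjIrr x θ : H → ℂ) = charDegree (θ : H → ℂ) := by
  simp [charDegree, conjFun]

/-- The stabiliser of a block of a normal subgroup. -/
def blockStab (b : Set (IrrCharacter H)) : Subgroup G where
  carrier := {x | ∀ θ : IrrCharacter H, conjIrr x θ ∈ b ↔ θ ∈ b}
  one_mem' θ := by rw [conjIrr_one]
  mul_mem' {x y} hx hy θ := by rw [conjIrr_mul, hx, hy]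
  inv_mem' {x} hx θ := by rw [← hx, ← conjIrr_mul, mul_inv_cancel, conjIrr_one]

theorem mem_blockStab {x : G} : x ∈ blockStab b ↔ ∀ θ : IrrCharacter H, conjIrr x θ ∈ b ↔ θ ∈ b :=
  Iff.rfl

/-- One member going into the block suffices. -/
theorem mem_blockStab_of_conj_mem [Finite G] [M.IsMaximal] (hb : IsPBlock M b) {x : G}
    {θ : IrrCharacter H} (hθ : θ ∈ b) (hx : conjIrr x θ ∈ b) : x ∈ blockStab b := by
  have : Fintype H := Fintype.ofFinite H
  intro ψ
  constructor
  · intro h
    have h1 := sameBlock_conjFun x⁻¹ (sameBlock_of_mem hb hx h)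
    simp only [conjIrr_coe, ← conjFun_mul, inv_mul_cancel, conjFun_one] at h1
    exact mem_of_sameBlock hb hθ h1
  · intro h
    exact mem_of_sameBlock hb hx (sameBlock_conjFun x (sameBlock_of_mem hb hθ h))

theorem blockHeight_conjIrr {x : G} (hx : x ∈ blockStab b) {θ : IrrCharacter H} (hθ : θ ∈ b) :
    blockHeight p b (conjIrr x θ : H → ℂ) = 0 ↔ blockHeight p b (θ : H → ℂ) = 0 := by
  rw [blockHeight_eq_zero_iff' ((mem_blockStab.1 hx θ).2 hθ), blockHeight_eq_zero_iff' hθ,
    charDegree_conjIrr]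

/-- A weight on the members of a block, invariant under conjugation, prime to `p` in total. -/
theorem exists_invariant_weight [Finite G] (hM : IsPModular p M) (hb : IsPBlock M b) :
    ∃ w : IrrCharacter H → ℕ, (∀ (x : G) (θ : IrrCharacter H), w (conjIrr x θ) = w θ) ∧
      ¬ p ∣ ∑ θ ∈ b.toFinite.toFinset,
        (if blockHeight p b (θ : H → ℂ) = 0 then w θ else 0) := by
  classical
  have : Fact p.Prime := ⟨hM.1⟩
  have := isMaximal_of_isPModular hM
  have : Fintype H := Fintype.ofFinite H
  have : ∀ P : Sylow p H, Fintype (P : Subgroup H) := fun P => Fintype.ofFinite _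
  have : Fintype (Sylow p H) := Fintype.ofFinite _
  choose k hk using fun (P : Sylow p H) (ψ : IrrCharacter H) =>
    exists_sum_subgroup_eq ψ (P : Subgroup H)
  let K : IrrCharacter H → ℕ := fun ψ => ∑ P : Sylow p H, k P ψ
  have hK : ∀ (x : G) (ψ : IrrCharacter H), K (conjIrr x ψ) = K ψ := by
    intro x ψ
    set e : MulAut H := (MulAut.conjNormal x : MulAut H)⁻¹
    refine Fintype.sum_equiv (MulAction.toPerm e) _ _ fun P => ?_
    apply Nat.cast_injective (R := ℂ)
    refine mul_left_cancel₀ (Nat.cast_ne_zero.2 (Nat.card_pos (α := (P : Subgroup H))).ne') ?_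
    rw [← hk P (conjIrr x ψ), show (Nat.card (P : Subgroup H) : ℂ) =
        Nat.card ((e • P : Sylow p H) : Subgroup H) from
      congrArg Nat.cast (Nat.card_congr (Subgroup.equivSMul e (P : Subgroup H)).toEquiv)]
    show _ = _ * ((k (e • P) ψ : ℕ) : ℂ)
    rw [← hk (e • P) ψ]
    rw [← finsum_eq_sum_of_fintype, ← finsum_eq_sum_of_fintype]
    exact finsum_eq_of_bijective (Subgroup.equivSMul e (P : Subgroup H))
      (Subgroup.equivSMul e (P : Subgroup H)).bijective fun u => rfl
  obtain ⟨χ, hχ, h0⟩ := exists_height_zero (p := p) hb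
  obtain ⟨φ, hφ⟩ := nonempty_of_isPBlock hb
  set m := minExp p b with hm
  refine ⟨fun θ => charDegree (θ : H → ℂ) / p ^ m * K θ,
    fun x θ => by simp only [hK, charDegree_conjIrr], fun hdvd => ?_⟩
  have hpm : (p ^ m : ℕ) ≠ 0 := pow_ne_zero _ hM.1.ne_zero
  have htot : ∑ ψ ∈ b.toFinite.toFinset, regPair p (χ : H → ℂ) (ψ : H → ℂ) * (K ψ : ℂ) =
      ((∑ P : Sylow p H, (P : Subgroup H).index : ℕ) : ℂ) * (χ : H → ℂ) 1 := by
    simp only [K, Nat.cast_sum, Finset.mul_sum, Finset.sum_mul]
    rw [Finset.sum_comm]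
    exact Finset.sum_congr rfl fun P _ => sum_regPair_mul_mult hM hb hχ P (k P) (hk P)
  have hq : ∀ ψ ∈ b, (charDegree (ψ : H → ℂ) : ℂ) / ((p ^ m : ℕ) : ℂ) =
      ((charDegree (ψ : H → ℂ) / p ^ m : ℕ) : ℂ) := fun ψ hψ => by
    rw [div_eq_iff (Nat.cast_ne_zero.2 hpm), ← Nat.cast_mul, Nat.div_mul_cancel]
    exact (pow_dvd_pow p (minExp_le hψ)).trans (Nat.ordProj_dvd _ _)
  set r := regPair p (χ : H → ℂ) (φ : H → ℂ) / (φ : H → ℂ) 1
  have hr : MemLocalRing M r := memLocalRing_regPair hM (Chars.isClassFunction_coe χ)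
    (fun y _ => memLocalRing_apply (Chars.isCharacter_coe χ) y) φ
  have hcongr : Congr M
      ((∑ ψ ∈ b.toFinite.toFinset, regPair p (χ : H → ℂ) (ψ : H → ℂ) * (K ψ : ℂ)) /
        ((p ^ m : ℕ) : ℂ))
      (r * ((∑ θ ∈ b.toFinite.toFinset, if blockHeight p b (θ : H → ℂ) = 0 then
        charDegree (θ : H → ℂ) / p ^ m * K θ else 0 : ℕ) : ℂ)) := by
    rw [Finset.sum_div, Nat.cast_sum, Finset.mul_sum]
    refine congr_sum _ fun ψ hψ => ?_
    have hψb : ψ ∈ b := b.toFinite.mem_toFinset.1 hψ
    have e : regPair p (χ : H → ℂ) (ψ : H → ℂ) * (K ψ : ℂ) / ((p ^ m : ℕ) : ℂ) =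
        regPair p (χ : H → ℂ) (ψ : H → ℂ) / (ψ : H → ℂ) 1 *
          ((charDegree (ψ : H → ℂ) / p ^ m * K ψ : ℕ) : ℂ) := by
      rw [Nat.cast_mul, ← hq ψ hψb, Chars.coe_charDegree]
      field_simp [Chars.map_one_ne_zero ψ]
    rw [e]
    have hc := congr_regPair hM (Chars.isClassFunction_coe χ)
      (fun y _ => memLocalRing_apply (Chars.isCharacter_coe χ) y) hb hψb hφ
    refine (Congr.mul hc (congr_refl _) ?_ ?_).trans ?_
    rotate_left 2
    · split_ifs with hz
      · exact congr_refl _
      · rw [Nat.cast_zero, mul_zero]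
        refine memLocalIdeal_iff_congr_zero.1 (memLocalIdeal_mul_left hr
          ((memLocalIdeal_natCast_iff hM _).2 (dvd_mul_of_dvd_left ?_ _)))
        have hlt := minExp_lt_of_height_ne_zero hψb hz
        have h1 : p ^ (m + 1) ∣ charDegree (ψ : H → ℂ) :=
          (hM.1.pow_dvd_iff_le_factorization (Chars.charDegree_pos ψ).ne').2 hlt
        exact Nat.dvd_div_of_mul_dvd (by rwa [← pow_succ])
    all_goals first
      | exact hr
      | exact natCast_mem (localRing M) _
      | exact memLocalRing_regPair hM (Chars.isClassFunction_coe χ)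
          (fun y _ => memLocalRing_apply (Chars.isCharacter_coe χ) y) ψ
  rw [htot, mul_div_assoc, ← Chars.coe_charDegree, hq χ hχ, ← Nat.cast_mul] at hcongr
  have hsmall := (hcongr.mem_iff).2
    (memLocalIdeal_mul_left hr ((memLocalIdeal_natCast_iff hM _).2 hdvd))
  rcases hM.1.dvd_mul.1 ((memLocalIdeal_natCast_iff hM _).1 hsmall) with h | h
  · let P₀ : Sylow p H := default
    have hsum : ∑ P : Sylow p H, (P : Subgroup H).index =
        Nat.card (Sylow p H) * (P₀ : Subgroup H).index := by
      rw [Finset.sum_congr rfl (g := fun _ => (P₀ : Subgroup H).index) fun P _ => ?_,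
        Finset.sum_const, Finset.card_univ, smul_eq_mul, Nat.card_eq_fintype_card]
      refine Nat.eq_of_mul_eq_mul_left (Nat.card_pos (α := (P : Subgroup H))) ?_
      rw [Subgroup.card_mul_index, P.card_eq_multiplicity, ← P₀.card_eq_multiplicity,
        Subgroup.card_mul_index]
    rw [hsum] at h
    rcases hM.1.dvd_mul.1 h with h | h
    · exact not_dvd_card_sylow p H h
    · exact P₀.not_dvd_index h
  · rw [hm, ← (blockHeight_eq_zero_iff' hχ).1 h0] at h
    exact Nat.not_dvd_ordCompl hM.1 (Chars.charDegree_pos χ).ne' h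

/-- A member of height zero with stabiliser of index prime to `p` in that of the block. -/
theorem exists_height_zero_fixed [Finite G] (hM : IsPModular p M) (hb : IsPBlock M b) :
    ∃ θ ∈ b, blockHeight p b (θ : H → ℂ) = 0 ∧
      ¬ p ∣ (inertia H (θ : H → ℂ)).relIndex (blockStab b) := by
  classical
  have : Fact p.Prime := ⟨hM.1⟩
  have := isMaximal_of_isPModular hM
  obtain ⟨w, hw, hsum⟩ := exists_invariant_weight hM hb
  let T : Subgroup G := blockStab b
  let R : Sylow p T := default
  let _ : MulAction G (IrrCharacter H) := conjIrrAction H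
  let act : MulAction (R : Subgroup T) b :=
    { smul := fun t θ => ⟨conjIrr ((t : T) : G) θ.1, ((t : T).2 θ.1).2 θ.2⟩
      one_smul := fun θ => Subtype.ext (conjIrr_one θ.1)
      mul_smul := fun t t' θ => Subtype.ext (conjIrr_mul _ _ θ.1) }
  have : Fintype b := Fintype.ofFinite _
  obtain ⟨r, hr⟩ := exists_sum_eq_fixed_add R.2
    (fun θ : b => ((if blockHeight p b (θ.1 : H → ℂ) = 0 then w θ.1 else 0 : ℕ) : ℤ))
    fun t θ => by
      have hiff : blockHeight p b (((t • θ : b)).1 : H → ℂ) = 0 ↔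
          blockHeight p b (θ.1 : H → ℂ) = 0 := blockHeight_conjIrr (t : T).2 θ.2
      have hwt : w (t • θ : b).1 = w θ.1 := hw _ _
      simp only [hiff, hwt]
  by_contra hcon
  push Not at hcon
  refine hsum ?_
  have hfix : ∀ θ : b, θ ∈ MulAction.fixedPoints (R : Subgroup T) b →
      blockHeight p b (θ.1 : H → ℂ) ≠ 0 := by
    intro θ hθ h0
    have hle : (R : Subgroup T).map T.subtype ≤ inertia H (θ.1 : H → ℂ) := by
      rintro _ ⟨t, ht, rfl⟩
      exact congrArg (fun η : b => (η.1 : H → ℂ)) (hθ ⟨t, ht⟩)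
    have hdvd := Subgroup.relIndex_dvd_of_le_left T hle
    have he : ((R : Subgroup T).map T.subtype).relIndex T = (R : Subgroup T).index := by
      rw [Subgroup.relIndex, Subgroup.subgroupOf,
        Subgroup.comap_map_eq_self_of_injective T.subtype_injective]
    rw [he] at hdvd
    exact R.not_dvd_index ((hcon θ.1 θ.2 h0).trans hdvd)
  rw [← Int.natCast_dvd_natCast]
  refine ⟨r, ?_⟩
  have hzero : ∑ θ ∈ Finset.univ.filter (· ∈ MulAction.fixedPoints (R : Subgroup T) b),
      ((if blockHeight p b (θ.1 : H → ℂ) = 0 then w θ.1 else 0 : ℕ) : ℤ) = 0 :=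
    Finset.sum_eq_zero fun θ hθ => by rw [if_neg (hfix θ (Finset.mem_filter.1 hθ).2)]; rfl
  rw [hzero, zero_add] at hr
  rw [← hr, ← Nat.cast_sum]
  exact congrArg Nat.cast (Finset.sum_subtype b.toFinite.toFinset (by simp)
    (fun θ : IrrCharacter H => if blockHeight p b (θ : H → ℂ) = 0 then w θ else 0))

end CfsgLib.Blocks.HeightZero
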