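import Cfsg.Agent.Blocks.HeightZero.Conjugation
import Cfsg.Agent.Chars.Induced.Clifford

/-!
# Every member of a covered block lies below the covering block

* `exists_over_of_covers`.
-/

set_option autoImplicit false

namespace CfsgLib.Blocks.HeightZero

open Cfsg CfsgLib.Blocks CfsgLib.Chars.Induced

universe u

variable {G : Type u} [Group G] [Fintype G] {N : Subgroup G} [N.Normal] [Fintype N] {p : ℕ}
  {M : Ideal AlgInt} {b : Set (IrrCharacter N)}

/-- The pairing summed over the stabiliser of the block. -/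
noncomputable def orbitPair (p : ℕ) (b : Set (IrrCharacter N)) (α β : IrrCharacter N) : ℂ :=
  ∑ᶠ t : blockStab (G := G) b, regPair p (conjIrr (t : G) α : N → ℂ) (β : N → ℂ)

theorem orbitPair_symm (α β : IrrCharacter N) :
    orbitPair p b α β = orbitPair p b β α := by
  unfold orbitPair
  refine finsum_eq_of_bijective (fun t => t⁻¹) inv_bijective fun t => ?_
  rw [regPair_symm (conjIrr ((t⁻¹ : blockStab (G := G) b) : G) β : N → ℂ), conjIrr_coe, conjIrr_coe,
    InvMemClass.coe_inv, ← regPair_conjFun ((t : G))⁻¹ (conjFun N (t : G) (α : N → ℂ)),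
    ← conjFun_mul, inv_mul_cancel, conjFun_one]

theorem orbitPair_ne_zero (hM : IsPModular p M) (hb : IsPBlock M b) {θ₀ θ : IrrCharacter N}
    (hθ₀ : θ₀ ∈ b) (h0 : blockHeight p b (θ₀ : N → ℂ) = 0)
    (hfix : ¬ p ∣ (inertia N (θ₀ : N → ℂ)).relIndex (blockStab (G := G) b)) (hθ : θ ∈ b) :
    orbitPair p b θ₀ θ ≠ 0 := by
  classical
  have := isMaximal_of_isPModular hM
  set T : Subgroup G := blockStab b
  set S : Subgroup T := (inertia N (θ₀ : N → ℂ)).subgroupOf T
  have : Fintype T := Fintype.ofFinite _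
  have : Fintype (T ⧸ S) := Fintype.ofFinite _
  have : Fintype S := Fintype.ofFinite _
  set f : T → ℂ := fun t => regPair p (conjIrr (t : G) θ₀ : N → ℂ) (θ : N → ℂ) with hf
  have hconst : ∀ (t : T) (s : S), f (t * (s : T)) = f t := fun t s => by
    have hs : conjIrr ((s : T) : G) θ₀ = θ₀ := Subtype.ext s.2
    simp only [hf, Subgroup.coe_mul, conjIrr_mul, hs]
  have hsum : ∑ t : T, f t = (Nat.card S : ℂ) * ∑ q : T ⧸ S, f q.out := by
    rw [Fintype.sum_equiv (Subgroup.groupEquivQuotientProdSubgroup (s := S)) f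
      (fun qs => f qs.1.out) fun t => ?_, Fintype.sum_prod_type, Finset.mul_sum]
    · refine Finset.sum_congr rfl fun q _ => ?_
      dsimp only
      rw [Finset.sum_const, Finset.card_univ, nsmul_eq_mul, Nat.card_eq_fintype_card]
    · have e : (Subgroup.groupEquivQuotientProdSubgroup (s := S) t).1 = (t : T ⧸ S) := rfl
      rw [e]
      obtain ⟨s, hs⟩ := QuotientGroup.mk_out_eq_mul S t
      rw [hs, hconst]
  unfold orbitPair
  rw [finsum_eq_sum_of_fintype, hsum]
  refine mul_ne_zero (Nat.cast_ne_zero.2 Nat.card_pos.ne') fun hz => ?_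
  set r := regPair p (θ₀ : N → ℂ) (θ₀ : N → ℂ) / (θ₀ : N → ℂ) 1
  have hterm : ∀ t : T, Congr M (f t / (θ : N → ℂ) 1) r := by
    intro t
    have e : f t / (θ : N → ℂ) 1 = regPair p (θ₀ : N → ℂ) (conjIrr ((t : G))⁻¹ θ : N → ℂ) /
        (conjIrr ((t : G))⁻¹ θ : N → ℂ) 1 := by
      simp only [hf, conjIrr_coe]
      rw [← regPair_conjFun ((t : G))⁻¹, ← conjFun_mul, inv_mul_cancel, conjFun_one]
      congr 1
      simp [conjFun]
    rw [e]
    exact congr_regPair hM (Chars.isClassFunction_coe θ₀)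
      (fun y _ => memLocalRing_apply (Chars.isCharacter_coe θ₀) y) hb
      ((mem_blockStab.1 (T.inv_mem t.2) θ).2 hθ) hθ₀
  have hc : Congr M ((∑ q : T ⧸ S, f q.out) / (θ : N → ℂ) 1) ((Nat.card (T ⧸ S) : ℂ) * r) := by
    rw [Finset.sum_div, show (Nat.card (T ⧸ S) : ℂ) * r = ∑ _q : T ⧸ S, r by
      rw [Finset.sum_const, Finset.card_univ, nsmul_eq_mul, Nat.card_eq_fintype_card]]
    exact congr_sum _ fun q _ => hterm _
  rw [hz, zero_div] at hc
  exact not_memLocalIdeal_mul (natCast_mem (localRing M) _)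
    (memLocalRing_regPair hM (Chars.isClassFunction_coe θ₀)
      (fun y _ => memLocalRing_apply (Chars.isCharacter_coe θ₀) y) θ₀)
    (fun h => hfix ((memLocalIdeal_natCast_iff hM _).1 h))
    (not_memLocalIdeal_regPair_of_height_zero hM hb hθ₀ h0 hθ₀)
    (hc.mem_iff.1 memLocalIdeal_zero)

/-- A nonzero pairing of a restriction produces a member of the block lying over. -/
theorem exists_over_of_regPair_ne_zero (hM : IsPModular p M) {B : Set (IrrCharacter G)}
    (hB : IsPBlock M B) {χ : IrrCharacter G} (hχ : χ ∈ B) (θ : IrrCharacter N)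
    (h : regPair p (fun n : N => (χ : G → ℂ) n) (θ : N → ℂ) ≠ 0) :
    ∃ χ' ∈ B, classInner (fun n : N => (χ' : G → ℂ) n) (θ : N → ℂ) ≠ 0 := by
  classical
  by_contra hcon
  push Not at hcon
  apply h
  have e := blockPart_pRegularPart hM hB (χ : G → ℂ)
  rw [blockPart_irr, Set.indicator_of_mem hχ] at e
  have h1 : pRegularPart p (fun n : N => (χ : G → ℂ) n) = ∑ η ∈ B.toFinite.toFinset,
      classInner (pRegularPart p (χ : G → ℂ)) (η : G → ℂ) • fun n : N => (η : G → ℂ) n := by
    funext n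
    have e' : pRegularPart p (fun n : N => (χ : G → ℂ) n) n =
        blockPart B (pRegularPart p (χ : G → ℂ)) (n : G) := by
      rw [congrFun e (n : G)]
      by_cases hn : p ∣ orderOf n <;> simp [pRegularPart, IsPRegular, hn]
    rw [e', Finset.sum_apply]
    simp only [blockPart, finsum_block_eq_sum, classInner, Pi.smul_apply, smul_eq_mul]
    refine Finset.sum_congr rfl fun η _ => ?_
    congr 2
    exact Finset.sum_congr (by ext x; simp) fun _ _ => rfl
  have h2 := congrArg (fun f => classInner f (θ : N → ℂ)) h1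
  simp only [Chars.classInner_sum_left, Chars.classInner_smul_left] at h2
  rw [classInner_pRegularPart_eq _ (Chars.isCharacter_coe θ),
    Finset.sum_eq_zero fun η hη => by rw [hcon η (B.toFinite.mem_toFinset.1 hη), mul_zero]] at h2
  exact (mul_eq_zero.1 h2).resolve_left (inv_ne_zero Chars.natCard_ne_zero)

/-- A nonzero orbit pairing with a constituent gives a nonzero pairing with the restriction. -/
theorem regPair_restrict_ne_zero (hM : IsPModular p M) (hb : IsPBlock M b) {χ : IrrCharacter G}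
    {θ₁ θ : IrrCharacter N} (hθ₁ : θ₁ ∈ b) (hθ : θ ∈ b)
    (hover : classInner (fun n : N => (χ : G → ℂ) n) (θ₁ : N → ℂ) ≠ 0)
    (h : orbitPair (G := G) p b θ₁ θ ≠ 0) :
    regPair p (fun n : N => (χ : G → ℂ) n) (θ : N → ℂ) ≠ 0 := by
  classical
  have := isMaximal_of_isPModular hM
  have hmult : mult (fun n : N => (χ : G → ℂ) n) θ₁ ≠ 0 := by
    rw [classInner_eq_mult (Chars.isCharacter_restrict (Chars.isCharacter_coe χ) N)] at hover
    exact_mod_cast hover
  set O := (Set.finite_range fun x : G => conjIrr x θ₁).toFinset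
  have hf : regPair p (fun n : N => (χ : G → ℂ) n) (θ : N → ℂ) =
      (mult (fun n : N => (χ : G → ℂ) n) θ₁ : ℂ) *
        ∑ η ∈ O, regPair p (η : N → ℂ) (θ : N → ℂ) := by
    rw [Finset.mul_sum, ← regPair_sum_left]
    congr 1
    funext n
    have e := congrFun (clifford χ θ₁ hmult) n
    simp only [Pi.smul_apply, Finset.sum_apply, smul_eq_mul, Finset.mul_sum] at e
    exact e
  have hall : ∑ x : G, regPair p (conjIrr x θ₁ : N → ℂ) (θ : N → ℂ) =
      orbitPair (G := G) p b θ₁ θ := by
    have : Fintype (blockStab (G := G) b) := Fintype.ofFinite _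
    unfold orbitPair
    rw [finsum_eq_sum_of_fintype,
      ← Finset.sum_subtype (Finset.univ.filter fun x : G => x ∈ blockStab b) (by simp)
        (fun x : G => regPair p (conjIrr x θ₁ : N → ℂ) (θ : N → ℂ))]
    refine (Finset.sum_filter_of_ne fun x _ hx => ?_).symm
    by_contra hnot
    exact hx (regPair_eq_zero_of_ne_block hM hb hθ fun h' =>
      hnot (mem_blockStab_of_conj_mem hb hθ₁ h'))
  rw [sum_conjIrr_eq θ₁ (fun η : IrrCharacter N => regPair p (η : N → ℂ) (θ : N → ℂ)),
    nsmul_eq_mul] at hall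
  rw [hf]
  exact mul_ne_zero (Nat.cast_ne_zero.2 hmult) fun hz => h (by rw [← hall, hz, mul_zero])

/-- Every member of a covered block lies below some member of the covering block. -/
theorem exists_over_of_covers (hM : IsPModular p M) {B : Set (IrrCharacter G)} (hB : IsPBlock M B)
    (hb : IsPBlock M b) {χ : IrrCharacter G} (hχ : χ ∈ B) {θ₁ : IrrCharacter N} (hθ₁ : θ₁ ∈ b)
    (hover : classInner (fun n : N => (χ : G → ℂ) n) (θ₁ : N → ℂ) ≠ 0) {θ : IrrCharacter N}
    (hθ : θ ∈ b) :
    ∃ χ' ∈ B, classInner (fun n : N => (χ' : G → ℂ) n) (θ : N → ℂ) ≠ 0 := by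
  obtain ⟨θ₀, hθ₀, h0, hfix⟩ := exists_height_zero_fixed (G := G) hM hb
  obtain ⟨χ', hχ', hover'⟩ := exists_over_of_regPair_ne_zero hM hB hχ θ₀
    (regPair_restrict_ne_zero hM hb hθ₁ hθ₀ hover
      (orbitPair_symm (p := p) (b := b) θ₀ θ₁ ▸ orbitPair_ne_zero hM hb hθ₀ h0 hfix hθ₁))
  exact exists_over_of_regPair_ne_zero hM hB hχ' θ
    (regPair_restrict_ne_zero hM hb hθ₀ hθ hover' (orbitPair_ne_zero hM hb hθ₀ h0 hfix hθ))

end CfsgLib.Blocks.HeightZero
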